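import Groth.Prelude.Def_Frob
import Mathlib.AlgebraicGeometry.IdealSheaf.Functorial
import Mathlib.FieldTheory.IsAlgClosed.AlgebraicClosure
import Mathlib.FieldTheory.Perfect
import Mathlib.FieldTheory.Finite.Basic
import Mathlib.CategoryTheory.Endomorphism
import Groth.Agent.Divis.IdealComap
import Groth.Agent.Flat2C.Glob

/-!
# Powers of the absolute Frobenius, and the geometric Frobenius of a base change
-/

set_option autoImplicit false

universe u

open CategoryTheory CategoryTheory.Limits AlgebraicGeometry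

namespace K954.FrobIter

section Basic

variable (X : Scheme.{u}) (p : ℕ) [Fact p.Prime] [FrobSch.IsCharP X p]

/-- The `m`-th power of the absolute Frobenius. -/
noncomputable def fm (m : ℕ) : X ⟶ X := End.asHom (End.of (FrobSch.frob X p) ^ m)

lemma fm_def (m : ℕ) : fm X p m = End.asHom (End.of (FrobSch.frob X p) ^ m) := rfl

lemma fm_zero : fm X p 0 = 𝟙 X := rfl

lemma fm_succ (m : ℕ) : fm X p (m + 1) = fm X p m ≫ FrobSch.frob X p := by
  rw [fm_def, pow_succ']
  rfl

lemma fm_apply (m : ℕ) (x : X) : fm X p m x = x := by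
  induction m with
  | zero => rfl
  | succ m ih => rw [fm_succ, Scheme.Hom.comp_apply, ih]; rfl

lemma fm_preimage (m : ℕ) (U : X.Opens) : fm X p m ⁻¹ᵁ U = U := by
  ext x
  change fm X p m x ∈ (U : Set X) ↔ _
  rw [fm_apply]

lemma fm_appLE (m : ℕ) (U V : X.Opens) (h : V ≤ fm X p m ⁻¹ᵁ U) (hVU : V ≤ U) (s : Γ(X, U)) :
    ((fm X p m).appLE U V h).hom s = ((X.presheaf.map (homOfLE hVU).op).hom s) ^ (p ^ m) := by
  induction m generalizing s with
  | zero =>
    have : (fm X p 0).appLE U V h = X.presheaf.map (homOfLE hVU).op := by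
      change (𝟙 X : X ⟶ X).appLE U V h = _
      rw [← Scheme.Hom.appLE_map (𝟙 X) (U := U) (V := U) le_rfl (homOfLE hVU).op]
      erw [Scheme.Hom.appLE_eq_app (f := 𝟙 X) (U := U)]
      rw [Scheme.Hom.id_app]
      erw [Category.id_comp]
    rw [this, pow_zero, pow_one]
  | succ m ih =>
    have h' : V ≤ fm X p m ⁻¹ᵁ U := by rw [fm_preimage]; exact hVU
    have h2 : ∀ (g : X ⟶ X) (hg : g = fm X p m ≫ FrobSch.frob X p) (hh : V ≤ g ⁻¹ᵁ U),
        (g.appLE U V hh).hom s = ((fm X p m).appLE U V h').hom (s ^ p) := by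
      rintro g rfl hh
      rw [Scheme.Hom.comp_appLE, CommRingCat.comp_apply]
      rfl
    rw [h2 _ (fm_succ X p m) h, ih h', map_pow, ← pow_mul, pow_succ']

variable {X} {Y : Scheme.{u}} [FrobSch.IsCharP Y p] (f : X ⟶ Y)

@[reassoc]
lemma fm_comp (m : ℕ) : fm X p m ≫ f = f ≫ fm Y p m := by
  induction m with
  | zero => rw [fm_zero, fm_zero, Category.id_comp, Category.comp_id]
  | succ m ih =>
    rw [fm_succ, fm_succ, Category.assoc, FrobSch.frob_comp, ← Category.assoc, ih,
      Category.assoc]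

end Basic

/-- Powers of the absolute Frobenius of an affine scheme. -/
lemma fm_Spec (R : CommRingCat.{u}) (p : ℕ) [Fact p.Prime] [FrobSch.IsCharP (Spec R) p] (m : ℕ)
    (φ : R →+* R) (hφ : ∀ r, φ r = r ^ p ^ m) :
    fm (Spec R) p m = Spec.map (CommRingCat.ofHom φ) := by
  refine ext_of_isAffine ?_
  refine CommRingCat.hom_ext (RingHom.ext fun s => ?_)
  obtain ⟨a, rfl⟩ : ∃ a, (Scheme.ΓSpecIso R).inv.hom a = s :=
    ⟨(Scheme.ΓSpecIso R).hom.hom s, by simp⟩
  have h1 : (fm (Spec R) p m).appTop.hom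
      ((Scheme.ΓSpecIso R).inv.hom a) = ((Scheme.ΓSpecIso R).inv.hom a) ^ p ^ m := by
    have h0 := fm_appLE (Spec R) p m ⊤ ⊤ (fm_preimage (Spec R) p m ⊤).ge le_rfl
      ((Scheme.ΓSpecIso R).inv.hom a)
    have h3 : (homOfLE (le_refl (⊤ : (Spec R).Opens))).op = 𝟙 _ := rfl
    rw [h3, (Spec R).presheaf.map_id] at h0
    refine Eq.trans ?_ h0
    have e := Scheme.Hom.appLE_eq_app (f := fm (Spec R) p m) (U := ⊤)
    exact (congrArg (fun t => (CommRingCat.Hom.hom t) ((Scheme.ΓSpecIso R).inv.hom a)) e).symm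
  have h2 := congrArg (fun t => CommRingCat.Hom.hom t a)
    (Scheme.ΓSpecIso_inv_naturality (CommRingCat.ofHom φ))
  refine h1.trans (Eq.trans ?_ h2)
  change _ = (Scheme.ΓSpecIso R).inv.hom (φ a)
  rw [hφ, map_pow]

/-- The geometric Frobenius of a scheme obtained by base change from a finite field to an
algebraic closure is a morphism followed by a power of the absolute Frobenius. -/
theorem exists_eq_comp_fm {C C₀ : Scheme.{u}} (p : ℕ) [Fact p.Prime]
    (k₀ : Type u) [Field k₀] [Fintype k₀] [CharP k₀ p] (e : ℕ) (hq : Fintype.card k₀ = p ^ e)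
    (K : Type u) [Field K] [Algebra k₀ K] [IsAlgClosure k₀ K]
    (f₀ : C₀ ⟶ Spec (CommRingCat.of k₀)) [FrobSch.IsCharP C₀ p] [FrobSch.IsCharP C p]
    (πC₀ : C ⟶ C₀) (πK : C ⟶ Spec (CommRingCat.of K))
    (hC : IsPullback πC₀ πK f₀ (Spec.map (CommRingCat.ofHom (algebraMap k₀ K))))
    (n : ℕ) (Fr : C ⟶ C)
    (hFr₀ : Fr ≫ πC₀ = πC₀ ≫ End.asHom (End.of (FrobSch.frob C₀ p) ^ (e * n)))
    (hFrK : Fr ≫ πK = πK) : ∃ τ : C ⟶ C, Fr = τ ≫ fm C p (e * n) := by
  have hKp : CharP K p := charP_of_injective_algebraMap (algebraMap k₀ K).injective p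
  have hac : IsAlgClosed K := IsAlgClosure.isAlgClosed k₀
  have hexp : ExpChar K p := inferInstance
  have hperf : PerfectField K := inferInstance
  have hpr : PerfectRing K p := inferInstance
  let φ : K ≃+* K := iterateFrobeniusEquiv K p (e * n)
  have hφ : ∀ x, φ x = x ^ p ^ (e * n) := fun x => iterateFrobeniusEquiv_apply K p (e * n) x
  have hφ₀ : ∀ x : k₀, φ (algebraMap k₀ K x) = algebraMap k₀ K x := by
    intro x
    rw [hφ, ← map_pow, pow_mul, ← hq, FiniteField.pow_card_pow]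
  have hcomp : (φ.symm : K →+* K).comp (algebraMap k₀ K) = algebraMap k₀ K := by
    ext x
    change φ.symm (algebraMap k₀ K x) = _
    rw [RingEquiv.symm_apply_eq]
    exact (hφ₀ x).symm
  have hw : πC₀ ≫ f₀ = (πK ≫ Spec.map (CommRingCat.ofHom (φ.symm : K →+* K))) ≫
      Spec.map (CommRingCat.ofHom (algebraMap k₀ K)) := by
    rw [hC.w, Category.assoc, ← Spec.map_comp, ← CommRingCat.ofHom_comp, hcomp]
  have hSpec : fm (Spec (CommRingCat.of K)) p (e * n) =
      Spec.map (CommRingCat.ofHom (φ : K →+* K)) :=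
    fm_Spec (CommRingCat.of K) p (e * n) (φ : K →+* K) hφ
  refine ⟨hC.lift πC₀ (πK ≫ Spec.map (CommRingCat.ofHom (φ.symm : K →+* K))) hw, ?_⟩
  refine hC.hom_ext ?_ ?_
  · rw [hFr₀, Category.assoc, fm_comp, ← Category.assoc, hC.lift_fst, fm_def]
  · rw [hFrK, Category.assoc, fm_comp, ← Category.assoc, hC.lift_snd, hSpec, Category.assoc,
      ← Spec.map_comp, ← CommRingCat.ofHom_comp]
    have : (φ.symm : K →+* K).comp (φ : K →+* K) = RingHom.id K := by
      ext x
      exact φ.symm_apply_apply x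
    rw [this]
    have h1 : Spec.map (CommRingCat.ofHom (RingHom.id K)) = 𝟙 (Spec (CommRingCat.of K)) :=
      Spec.map_id _
    rw [h1, Category.comp_id]

section Ideal

variable {C : Scheme.{u}} (p : ℕ) [Fact p.Prime] [FrobSch.IsCharP C p] (m : ℕ)

lemma ideal_comap_fm_le (M : C.IdealSheafData) (U : C.affineOpens) (N : Ideal Γ(C, U.1))
    (h : ∀ a ∈ M.ideal U, a ^ p ^ m ∈ N) : (M.comap (fm C p m)).ideal U ≤ N := by
  rw [Groth.Agent.Divis.IdealComap.ideal_comap M (fm C p m) U U (fm_preimage C p m U.1).ge,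
    Ideal.map_le_iff_le_comap]
  intro a ha
  rw [Ideal.mem_comap, fm_appLE C p m U.1 U.1 _ le_rfl]
  have h3 : (homOfLE (le_refl U.1)).op = 𝟙 _ := rfl
  rw [h3, C.presheaf.map_id]
  exact h a ha

/-- The basic estimate: on an affine open on which the zero locus of `J` is contained in that of
`M`, the Frobenius pullback of `M` is contained in `J` times the radical of `J`. -/
theorem ideal_comap_fm_le_mul (M J : C.IdealSheafData) (U : C.affineOpens)
    (hs : ∀ y ∈ U.1, y ∈ J.support → y ∈ M.support) (d : ℕ) (hn : d < p ^ m)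
    (hd : (J.ideal U).radical ^ d ≤ J.ideal U) :
    (M.comap (fm C p m)).ideal U ≤ J.ideal U * (J.ideal U).radical := by
  refine ideal_comap_fm_le p m M U _ fun a ha => ?_
  have ha' : a ∈ (J.ideal U).radical :=
    Groth.Agent.Flat2C.Glob.ideal_le_radical_of_support (I := M) (K := J) U
      (fun y hy => hs y hy.2 hy.1) ha
  have : a ^ p ^ m = a ^ d * (a * a ^ (p ^ m - d - 1)) := by
    rw [← pow_succ', ← pow_add]
    congr 1
    omega
  rw [this]
  exact Ideal.mul_mem_mul (hd (Ideal.pow_mem_pow ha' d)) (Ideal.mul_mem_right _ _ ha')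

theorem ideal_comap_fm_bounds (M J : C.IdealSheafData) (U : C.affineOpens)
    (hs : ∀ y ∈ U.1, y ∈ J.support → y ∈ M.support) (d : ℕ) (hn : d < p ^ m)
    (hd : (J.ideal U).radical ^ d ≤ J.ideal U) :
    (M.comap (fm C p m)).ideal U ≤ J.ideal U ∧
      (M.comap (fm C p m)).ideal U ^ d ≤ J.ideal U ^ (d + 1) := by
  have h := ideal_comap_fm_le_mul p m M J U hs d hn hd
  refine ⟨h.trans Ideal.mul_le_left, ?_⟩
  calc (M.comap (fm C p m)).ideal U ^ d ≤ (J.ideal U * (J.ideal U).radical) ^ d :=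
        Ideal.pow_right_mono h d
    _ = J.ideal U ^ d * (J.ideal U).radical ^ d := mul_pow _ _ _
    _ ≤ J.ideal U ^ d * J.ideal U := Ideal.mul_mono le_rfl hd
    _ = J.ideal U ^ (d + 1) := (pow_succ _ _).symm

end Ideal

end K954.FrobIter
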