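import Groth.Agent.S0384
import Groth.Agent.Flat2C.SeparateClosed
import Groth.Agent.Flat2C.CompData
import Groth.Agent.Flat2C.Admissible
import Groth.Agent.Flat2C.BlowExist
import Groth.Agent.Flat2C.BlowProper
import Groth.Agent.Flat2C.DisjointStep

/-!
# Compactifications separating finitely many pairs of disjoint closed subsets
-/

set_option autoImplicit false

universe u v

open CategoryTheory CategoryTheory.Limits AlgebraicGeometry TopologicalSpace

namespace K954.Compactif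

/-- Nagata compactification with dense open part. -/
theorem exists_dense {X S : Scheme.{u}} (f : X ⟶ S) [CompactSpace S] [QuasiSeparatedSpace S]
    [IsSeparated f] [QuasiCompact f] [LocallyOfFiniteType f] :
    ∃ (Y : Scheme.{u}) (j : X ⟶ Y) (g : Y ⟶ S), IsOpenImmersion j ∧ QuasiCompact j ∧
      IsDominant j ∧ IsProper g ∧ j ≫ g = f := by
  obtain ⟨Y, j, g, hj, hjq, hg, hjg⟩ := Groth.Agent.S0384.result f
  refine ⟨j.image, j.toImage, j.imageι ≫ g, inferInstance, ?_, inferInstance, inferInstance, ?_⟩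
  · have : QuasiCompact (j.toImage ≫ j.imageι) := by rw [Scheme.Hom.toImage_imageι]; infer_instance
    exact QuasiCompact.of_comp j.toImage j.imageι
  · rw [Scheme.Hom.toImage_imageι_assoc, hjg]

/-- An open immersion into the locus where `f` is an isomorphism lifts along `f`. -/
theorem exists_lift {X' X Y : Scheme.{u}} (f : X' ⟶ X) (U : X.Opens) [IsIso (f ∣_ U)]
    (j₀ : Y ⟶ X) [IsOpenImmersion j₀] (h : Set.range j₀ ⊆ (U : Set X)) :
    ∃ j : Y ⟶ X', IsOpenImmersion j ∧ j ≫ f = j₀ ∧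
      ∀ T : Set Y, j '' T = f ⁻¹' (j₀ '' T) := by
  have hr : Set.range j₀ ⊆ Set.range U.ι := by rwa [Scheme.Opens.range_ι]
  let l : Y ⟶ U := IsOpenImmersion.lift U.ι j₀ hr
  have hl : l ≫ U.ι = j₀ := IsOpenImmersion.lift_fac _ _ _
  have hlo : IsOpenImmersion (l ≫ U.ι) := by rw [hl]; infer_instance
  have hl' : IsOpenImmersion l := IsOpenImmersion.of_comp l U.ι
  let j : Y ⟶ X' := l ≫ inv (f ∣_ U) ≫ (f ⁻¹ᵁ U).ι
  have hjf : j ≫ f = j₀ := by
    simp only [j, Category.assoc]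
    rw [← morphismRestrict_ι, IsIso.inv_hom_id_assoc, hl]
  refine ⟨j, inferInstance, hjf, fun T => ?_⟩
  apply Set.Subset.antisymm
  · rintro _ ⟨y, hy, rfl⟩
    refine ⟨y, hy, ?_⟩
    rw [← hjf]
    rfl
  · rintro x' ⟨y, hy, hxy⟩
    refine ⟨y, hy, ?_⟩
    have hx'U : x' ∈ f ⁻¹ᵁ U := by
      change f x' ∈ (U : Set X)
      rw [← hxy]
      exact h ⟨y, rfl⟩
    have hjU : j y ∈ f ⁻¹ᵁ U := by
      change f (j y) ∈ (U : Set X)
      rw [← Scheme.Hom.comp_apply, hjf]
      exact h ⟨y, rfl⟩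
    have hinj : Function.Injective (f ∣_ U) := (f ∣_ U).homeomorph.injective
    have e : (f ∣_ U) ⟨j y, hjU⟩ = (f ∣_ U) ⟨x', hx'U⟩ := by
      apply Subtype.ext
      refine (morphismRestrict_base_coe f U ⟨j y, hjU⟩).trans
        (Eq.trans ?_ (morphismRestrict_base_coe f U ⟨x', hx'U⟩).symm)
      change f (j y) = f x'
      rw [← Scheme.Hom.comp_apply, hjf, hxy]
    exact congrArg Subtype.val (hinj e)

/-- Finitely many pairs of disjoint closed subsets can be kept disjoint in a compactification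
over a Noetherian base. -/
theorem exists_closure_disjoint {X S : Scheme.{u}} [IsNoetherian S] (f : X ⟶ S)
    [IsSeparated f] [QuasiCompact f] [LocallyOfFiniteType f] {ι : Type v} [Finite ι]
    (C₁ C₂ : ι → Set X) (h₁ : ∀ i, IsClosed (C₁ i)) (h₂ : ∀ i, IsClosed (C₂ i))
    (hd : ∀ i, Disjoint (C₁ i) (C₂ i)) :
    ∃ (Y : Scheme.{u}) (j : X ⟶ Y) (g : Y ⟶ S), IsOpenImmersion j ∧ IsDominant j ∧ IsProper g ∧
      j ≫ g = f ∧ ∀ i, Disjoint (closure (j '' C₁ i)) (closure (j '' C₂ i)) := by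
  classical
  obtain ⟨Y₀, j₀, g₀, hj₀, hjq, hjd, hg₀, hjg⟩ := exists_dense f
  have hYl : IsLocallyNoetherian Y₀ := LocallyOfFiniteType.isLocallyNoetherian g₀
  have hYc : CompactSpace Y₀ := QuasiCompact.compactSpace_of_compactSpace g₀
  have hYn : IsNoetherian Y₀ := {}
  let U : Y₀.Opens := j₀.opensRange
  have hU : IsCompact (U : Set Y₀) := NoetherianSpace.isCompact _
  have hUn : NoetherianSpace U := (NoetherianSpace.set (U : Set Y₀))
  let T : Set X → Set U := fun C => Subtype.val ⁻¹' (j₀ '' C)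
  have hT : ∀ C : Set X, (Subtype.val '' T C : Set Y₀) = j₀ '' C := by
    intro C
    apply Set.Subset.antisymm
    · rintro _ ⟨y, hy, rfl⟩
      exact hy
    · rintro _ ⟨y, hy, rfl⟩
      exact ⟨⟨j₀ y, ⟨y, rfl⟩⟩, ⟨y, hy, rfl⟩, rfl⟩
  have hTcl : ∀ C : Set X, IsClosed C → IsClosed (T C) := by
    intro C hC
    obtain ⟨D, hD, hDC⟩ := j₀.isOpenEmbedding.isInducing.isClosed_iff.1 hC
    have : T C = Subtype.val ⁻¹' D := by
      ext ⟨y, x, rfl⟩
      constructor
      · rintro ⟨x', hx', e⟩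
        have : x' = x := j₀.isOpenEmbedding.injective e
        subst this
        rw [← hDC] at hx'
        exact hx'
      · intro hx
        refine ⟨x, ?_, rfl⟩
        rw [← hDC]
        exact hx
    rw [this]
    exact hD.preimage continuous_subtype_val
  have hTd : ∀ i, Disjoint (T (C₁ i)) (T (C₂ i)) := by
    intro i
    rw [Set.disjoint_left]
    rintro y ⟨x₁, hx₁, e₁⟩ ⟨x₂, hx₂, e₂⟩
    have : x₁ = x₂ := j₀.isOpenEmbedding.injective (e₁.trans e₂.symm)
    subst this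
    exact Set.disjoint_left.1 (hd i) hx₁ hx₂
  have key : ∀ i, ∃ 𝓘 : Y₀.IdealSheafData, BlowUp.IsAdmissibleFor U 𝓘 ∧
      ∀ (X' : Scheme.{u}) (b : X' ⟶ Y₀), BlowUp.IsEffCartierIdeal (𝓘.comap b) →
        Disjoint (closure (b ⁻¹' (j₀ '' C₁ i))) (closure (b ⁻¹' (j₀ '' C₂ i))) := by
    intro i
    obtain ⟨𝓘, h𝓘, H⟩ := Groth.Agent.Flat2C.SeparateClosed.exists_ideal_separating U hU
      (T (C₁ i)) (T (C₂ i)) (hTcl _ (h₁ i)) (hTcl _ (h₂ i))
      (Groth.Agent.Flat2C.DisjointStep.isConstructible_of_isClosed (hTcl _ (h₁ i)))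
      (Groth.Agent.Flat2C.DisjointStep.isConstructible_of_isClosed (hTcl _ (h₂ i))) (hTd i)
    refine ⟨𝓘, h𝓘, fun X' b hb => ?_⟩
    have := H X' b hb
    rwa [hT, hT] at this
  choose 𝓘 h𝓘 H using key
  have : Fintype ι := Fintype.ofFinite ι
  let 𝓙 : Y₀.IdealSheafData := ∏ i, 𝓘 i
  have h𝓙 : BlowUp.IsAdmissibleFor U 𝓙 :=
    Groth.Agent.Flat2C.Admissible.admissible_prod Finset.univ 𝓘 fun i _ => h𝓘 i
  obtain ⟨Y, b, hb⟩ := Groth.Agent.Flat2C.BlowExist.exists_isBlowUp 𝓙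
  have hbp : IsProper b := Groth.Agent.Flat2C.BlowProper.isProper_of_isBlowUp hb h𝓙.1
  have hbi : IsIso (b ∣_ U) :=
    Groth.Agent.Divis.BlowUpFormal.isIso_morphismRestrict_compl_support hb U h𝓙.2.symm
  obtain ⟨j, hj, hjb, hjT⟩ := exists_lift b U j₀ (by rw [Scheme.Hom.coe_opensRange])
  have hdense : Dense ((b ⁻¹ᵁ U : Y.Opens) : Set Y) :=
    Groth.Agent.Flat2C.CompData.dense_preimage_blowUp hb U j₀.denseRange
  refine ⟨Y, j, b ≫ g₀, hj, ⟨?_⟩, inferInstance, ?_, fun i => ?_⟩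
  · have : Set.range j = b ⁻¹' (U : Set Y₀) := by
      rw [← Set.image_univ, hjT, Set.image_univ, ← Scheme.Hom.coe_opensRange]
    rw [DenseRange, this]
    exact hdense
  · rw [← Category.assoc, hjb, hjg]
  · rw [hjT, hjT]
    refine H i Y b ?_
    have h2 := hb.1
    rw [Groth.Agent.Flat2C.Admissible.comap_prod,
      Groth.Agent.Flat2C.Admissible.isEff_prod_iff] at h2
    exact h2 i (Finset.mem_univ i)

end K954.Compactif
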