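import Mathlib.AlgebraicGeometry.IdealSheaf.Basic
import Mathlib.AlgebraicGeometry.Noetherian
import Mathlib.RingTheory.Ideal.IdempotentFG

/-!
# Ideal sheaves with stationary powers on locally Noetherian schemes
-/

set_option autoImplicit false

universe u

open AlgebraicGeometry

namespace K954.IdemIdeal

variable {X : Scheme.{u}} [IsLocallyNoetherian X] (I : X.IdealSheafData)

/-- A power of an ideal sheaf which agrees with the next power is idempotent on each affine open. -/
theorem exists_idempotent (k : ℕ) (hk : k ≠ 0) (h : I ^ k = I ^ (k + 1)) (U : X.affineOpens) :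
    ∃ e : Γ(X, U.1), IsIdempotentElem e ∧ (I ^ k).ideal U = Ideal.span {e} := by
  have hn : IsNoetherianRing Γ(X, U.1) := IsLocallyNoetherian.component_noetherian U
  have hst : ∀ j : ℕ, I ^ k = I ^ (k + j) := by
    intro j
    induction j with
    | zero => rfl
    | succ j ih => rw [← add_assoc, pow_succ, ← ih, ← pow_succ, ← h]
  have hid : IsIdempotentElem ((I ^ k).ideal U) := by
    have h2 : (I ^ k).ideal U = (I ^ (k + k)).ideal U := by rw [← hst k]
    rw [Scheme.IdealSheafData.ideal_pow, Scheme.IdealSheafData.ideal_pow, Pi.pow_apply,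
      Pi.pow_apply] at h2
    rw [IsIdempotentElem, Scheme.IdealSheafData.ideal_pow, Pi.pow_apply, ← pow_add, ← h2]
  exact (Ideal.isIdempotentElem_iff_of_fg _ (IsNoetherian.noetherian _)).1 hid

theorem mem_support_iff_basicOpen (J : X.IdealSheafData) (U : X.affineOpens) (e : Γ(X, U.1))
    (he : J.ideal U = Ideal.span {e}) (x : X) (hx : x ∈ U.1) :
    x ∈ J.support ↔ x ∉ X.basicOpen e := by
  rw [Scheme.IdealSheafData.mem_support_iff_of_mem hx, he, Scheme.zeroLocus_span,
    Scheme.zeroLocus_singleton]
  rfl

/-- The support of an ideal sheaf with stationary powers is open. -/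
theorem isOpen_support (k : ℕ) (h : I ^ k = I ^ (k + 1)) : IsOpen (I.support : Set X) := by
  rcases eq_or_ne k 0 with rfl | hk
  · have h1 : I = ⊤ := by
      rw [pow_zero, zero_add, pow_one] at h
      exact h.symm
    rw [h1, Scheme.IdealSheafData.support_top]
    exact isOpen_empty
  · rw [← Scheme.IdealSheafData.support_pow I k hk, isOpen_iff_forall_mem_open]
    intro x hx
    obtain ⟨U, hU, hxU, -⟩ := exists_isAffineOpen_mem_and_subset (x := x) (U := ⊤) trivial
    obtain ⟨e, he, hJ⟩ := exists_idempotent I k hk h ⟨U, hU⟩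
    have hmem : ∀ y ∈ U, y ∈ (I ^ k).support ↔ y ∈ X.basicOpen (1 - e) := by
      intro y hy
      rw [mem_support_iff_basicOpen (I ^ k) ⟨U, hU⟩ e hJ y hy]
      rw [Scheme.mem_basicOpen _ _ _ hy, Scheme.mem_basicOpen _ _ _ hy]
      have he' : IsIdempotentElem (X.presheaf.germ U y hy e) := he.map _
      rw [map_sub, map_one]
      constructor
      · intro hne
        exact (IsLocalRing.isUnit_or_isUnit_one_sub_self _).resolve_left hne
      · intro h1 h2
        have h3 : X.presheaf.germ U y hy e * (1 - X.presheaf.germ U y hy e) = 0 :=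
          isIdempotentElem_iff_mul_one_sub_self.1 he'
        exact not_isUnit_zero (h3 ▸ h2.mul h1)
    refine ⟨X.basicOpen (1 - e), ?_, (X.basicOpen (1 - e)).isOpen, (hmem x hxU).1 hx⟩
    intro y hy
    exact (hmem y (X.basicOpen_le _ hy)).2 hy

/-- If moreover the support is everything, then the stationary power vanishes. -/
theorem pow_eq_bot (k : ℕ) (h : I ^ k = I ^ (k + 1)) (hk : k ≠ 0)
    (hs : (I.support : Set X) = Set.univ) : I ^ k = ⊥ := by
  refine Scheme.IdealSheafData.ext ?_
  funext U
  obtain ⟨e, he, hJ⟩ := exists_idempotent I k hk h U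
  rw [hJ, Scheme.IdealSheafData.ideal_bot]
  change Ideal.span {e} = ⊥
  rw [Ideal.span_singleton_eq_bot]
  have hbo : X.basicOpen e = ⊥ := by
    rw [eq_bot_iff]
    intro y hy
    have hyU : y ∈ U.1 := X.basicOpen_le _ hy
    have : y ∈ (I ^ k).support := by
      rw [Scheme.IdealSheafData.support_pow I k hk]
      change y ∈ (I.support : Set X)
      rw [hs]
      trivial
    exact ((mem_support_iff_basicOpen (I ^ k) U e hJ y hyU).1 this hy).elim
  have hnil : IsNilpotent e := by
    obtain ⟨n, hn⟩ := (Scheme.isNilpotent_iff_basicOpen_eq_bot_of_isCompact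
      U.2.isCompact e).2 hbo
    exact ⟨n, hn⟩
  obtain ⟨n, hn⟩ := hnil
  rcases Nat.eq_zero_or_pos n with rfl | hpos
  · rw [pow_zero] at hn
    rw [← mul_one e, hn, mul_zero]
  · rwa [he.pow_eq hpos.ne'] at hn

end K954.IdemIdeal
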