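import Groth.Agent.LVCorr.K954.Compactif
import Groth.Agent.Flat2C.GlueTwo
import Groth.Agent.Flat2C.CompData

/-!
# Compactifying a scheme over a base which is an open part of the base over an open subset
-/

set_option autoImplicit false

universe u

open CategoryTheory CategoryTheory.Limits AlgebraicGeometry TopologicalSpace

namespace K954.LiftCompact

/-- If `φ` restricts to an isomorphism over `V`, then its restriction to the preimage of `V` is an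
open immersion. -/
theorem isOpenImmersion_ι_comp {X Y : Scheme.{u}} (φ : X ⟶ Y) (V : Y.Opens) [IsIso (φ ∣_ V)]
    (W : X.Opens) (hW : W = φ ⁻¹ᵁ V) : IsOpenImmersion (W.ι ≫ φ) := by
  subst hW
  rw [← morphismRestrict_ι]
  infer_instance

/-- Let `g₁ : X₁ ⟶ S` be separated of finite type and an open immersion over the open `V ⊆ S`.
Then `X₁` embeds into a proper `S`-scheme which is isomorphic to `S` over `V`. -/
theorem exists_proper_iso_over {S X₁ : Scheme.{u}} [CompactSpace S] [QuasiSeparatedSpace S]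
    (g₁ : X₁ ⟶ S) [IsSeparated g₁] [LocallyOfFiniteType g₁] [QuasiCompact g₁] (V : S.Opens)
    [QuasiCompact V.ι] (hV : IsOpenImmersion ((g₁ ⁻¹ᵁ V).ι ≫ g₁)) :
    ∃ (Y : Scheme.{u}) (e : X₁ ⟶ Y) (g : Y ⟶ S), IsOpenImmersion e ∧ IsProper g ∧ e ≫ g = g₁ ∧
      IsIso (g ∣_ V) := by
  have hi₂ : IsOpenImmersion (g₁ ∣_ V) := by
    have : IsOpenImmersion ((g₁ ∣_ V) ≫ V.ι) := by rw [morphismRestrict_ι]; exact hV
    exact IsOpenImmersion.of_comp (g₁ ∣_ V) V.ι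
  have hw : (g₁ ⁻¹ᵁ V).ι ≫ g₁ = (g₁ ∣_ V) ≫ V.ι := (morphismRestrict_ι g₁ V).symm
  have hpb : IsPullback (g₁ ⁻¹ᵁ V).ι (g₁ ∣_ V) g₁ V.ι := (isPullback_morphismRestrict g₁ V).flip
  have hcl : IsClosedImmersion (pullback.lift (g₁ ⁻¹ᵁ V).ι (g₁ ∣_ V) hw) := by
    have : pullback.lift (g₁ ⁻¹ᵁ V).ι (g₁ ∣_ V) hw = hpb.isoPullback.hom := by
      apply pullback.hom_ext
      · rw [pullback.lift_fst, hpb.isoPullback_hom_fst]
      · rw [pullback.lift_snd, hpb.isoPullback_hom_snd]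
    rw [this]
    infer_instance
  obtain ⟨T, qT, o₁, o₂, ho₁, ho₂, h₁, h₂, hpb', hpo, hcov, hs, hft, hqc⟩ :=
    Groth.Agent.Flat2C.GlueTwo.exists_glue (g₁ ⁻¹ᵁ V).ι (g₁ ∣_ V) g₁ V.ι hw hcl
  obtain ⟨Y, jT, g, hjT, hjq, hjd, hg, hjg⟩ := K954.Compactif.exists_dense qT
  refine ⟨Y, o₁ ≫ jT, g, inferInstance, hg, by rw [Category.assoc, hjg, h₁], ?_⟩
  -- the section over `V`
  have hr : Set.range (o₂ ≫ jT) ⊆ Set.range (g ⁻¹ᵁ V).ι := by
    rw [Scheme.Opens.range_ι]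
    rintro _ ⟨x, rfl⟩
    change g ((o₂ ≫ jT) x) ∈ V
    rw [← Scheme.Hom.comp_apply, Category.assoc, hjg, h₂]
    exact x.2
  let s : (V : Scheme.{u}) ⟶ (g ⁻¹ᵁ V : Y.Opens) := IsOpenImmersion.lift (g ⁻¹ᵁ V).ι (o₂ ≫ jT) hr
  have hsι : s ≫ (g ⁻¹ᵁ V).ι = o₂ ≫ jT := IsOpenImmersion.lift_fac _ _ _
  have hso : IsOpenImmersion s := by
    have : IsOpenImmersion (s ≫ (g ⁻¹ᵁ V).ι) := by rw [hsι]; infer_instance
    exact IsOpenImmersion.of_comp s (g ⁻¹ᵁ V).ι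
  have hsg : s ≫ (g ∣_ V) = 𝟙 _ := by
    rw [← cancel_mono V.ι, Category.assoc, morphismRestrict_ι, ← Category.assoc, hsι,
      Category.assoc, hjg, h₂, Category.id_comp]
  have hsiso : IsIso (s ≫ (g ∣_ V)) := by rw [hsg]; infer_instance
  have hsd : IsDominant s := by
    refine ⟨?_⟩
    intro y
    rw [mem_closure_iff]
    intro O hO hy
    have hO' : IsOpen ((g ⁻¹ᵁ V).ι '' O) := (g ⁻¹ᵁ V).ι.isOpenEmbedding.isOpenMap _ hO
    obtain ⟨_, ⟨z, hz, rfl⟩, t, ht⟩ := mem_closure_iff.1 (jT.denseRange ((g ⁻¹ᵁ V).ι y)) _ hO'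
      ⟨y, hy, rfl⟩
    have htV : qT t ∈ V := by
      rw [← hjg, Scheme.Hom.comp_apply, ht]
      exact z.2
    have : t ∈ Set.range o₂ := by
      have htc : t ∈ (o₁.opensRange ⊔ o₂.opensRange : T.Opens) := by rw [hcov]; trivial
      rcases htc with ⟨x, rfl⟩ | h
      · have hx : x ∈ g₁ ⁻¹ᵁ V := by
          change g₁ x ∈ V
          rw [← h₁]
          exact htV
        obtain ⟨x', rfl⟩ : ∃ x' : ↥(g₁ ⁻¹ᵁ V : Scheme.{u}), (g₁ ⁻¹ᵁ V).ι x' = x := ⟨⟨x, hx⟩, rfl⟩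
        refine ⟨(g₁ ∣_ V) x', ?_⟩
        rw [← Scheme.Hom.comp_apply, ← Scheme.Hom.comp_apply, ← hpb'.w]
      · exact h
    obtain ⟨v, rfl⟩ := this
    refine ⟨z, hz, v, ?_⟩
    apply (g ⁻¹ᵁ V).ι.isOpenEmbedding.injective
    rw [← ht, ← Scheme.Hom.comp_apply, hsι]
    rfl
  exact Groth.Agent.Flat2C.CompData.isIso_of_section (g ∣_ V) s

end K954.LiftCompact
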