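import Groth.Agent.Divis.IdealComap

/-!
# Comparing inverse images of ideal sheaves on an open subscheme
-/

set_option autoImplicit false

universe u

open CategoryTheory AlgebraicGeometry

namespace K954.OpenComap

variable {C : Scheme.{u}}

/-- An inclusion of ideal sheaves over an open subset can be checked on the affine opens of the
ambient scheme contained in the open subset. -/
theorem comap_ι_le (W : C.Opens) (A B : C.IdealSheafData)
    (h : ∀ U : C.affineOpens, U.1 ≤ W → A.ideal U ≤ B.ideal U) :
    A.comap W.ι ≤ B.comap W.ι := by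
  intro V
  let U : C.affineOpens := ⟨W.ι ''ᵁ V.1, V.2.image_of_isOpenImmersion W.ι⟩
  have e : V.1 ≤ W.ι ⁻¹ᵁ U.1 := (Scheme.Hom.preimage_image_eq W.ι V.1).ge
  have hUW : U.1 ≤ W := by
    rintro _ ⟨y, -, rfl⟩
    exact y.2
  rw [Groth.Agent.Divis.IdealComap.ideal_comap A W.ι U V e,
    Groth.Agent.Divis.IdealComap.ideal_comap B W.ι U V e]
  exact Ideal.map_mono (h U hUW)

end K954.OpenComap
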