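import Mathlib.RingTheory.Ideal.KrullsHeightTheorem
import Mathlib.RingTheory.DiscreteValuationRing.TFAE
import Mathlib.RingTheory.LocalProperties.IntegrallyClosed

/-!
# Principal ideals with prime radical in Noetherian domains
-/

set_option autoImplicit false

universe u

namespace K954.RadicalPrime

variable {A : Type u} [CommRing A] [IsDomain A] [IsNoetherianRing A]

/-- In a Noetherian domain the prime radical of a principal ideal contains no smaller nonzero
prime. -/
theorem eq_of_le {z : A} (hz : (Ideal.span {z}).radical.IsPrime) (q : Ideal A) [hq : q.IsPrime]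
    (hle : q ≤ (Ideal.span {z}).radical) (hne : q ≠ ⊥) : q = (Ideal.span {z}).radical := by
  by_contra h
  have hmin : (Ideal.span {z}).radical ∈ (Ideal.span {z}).minimalPrimes :=
    ⟨⟨hz, Ideal.le_radical⟩, fun J hJ _ => hJ.1.radical_le_iff.2 hJ.2⟩
  have h1 := Ideal.height_le_one_of_isPrincipal_of_mem_minimalPrimes (Ideal.span {z}) _ hmin
  have h2 : q.height < (Ideal.span {z}).radical.height :=
    Ideal.height_strict_mono_of_isPrime_of_isPrime (lt_of_le_of_ne hle h)
  have h3 : (⊥ : Ideal A).height < q.height :=
    Ideal.height_strict_mono_of_isPrime_of_isPrime (bot_lt_iff_ne_bot.2 hne)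
  have h4 : (1 : ℕ∞) ≤ q.height := Order.one_le_iff_pos.2 (lt_of_le_of_lt bot_le h3)
  exact absurd (h4.trans_lt h2) (not_lt.2 h1)

/-- If an inclusion of ideals, the smaller one finitely generated, holds after localizing at a
prime, it holds up to multiplication by an element outside the prime. -/
theorem exists_mul_mem (P : Ideal A) [P.IsPrime] (I J : Ideal A)
    (h : I.map (algebraMap A (Localization.AtPrime P)) ≤
      J.map (algebraMap A (Localization.AtPrime P))) :
    ∃ w : A, w ∉ P ∧ ∀ x ∈ I, w * x ∈ J := by
  have key : ∀ K : Ideal A, K.FG → K.map (algebraMap A (Localization.AtPrime P)) ≤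
      J.map (algebraMap A (Localization.AtPrime P)) → ∃ w : A, w ∉ P ∧ ∀ x ∈ K, w * x ∈ J := by
    intro K hK
    induction K, hK using Submodule.fg_induction with
    | singleton a =>
      intro ha
      have h1 : algebraMap A (Localization.AtPrime P) a ∈
          J.map (algebraMap A (Localization.AtPrime P)) :=
        ha (Ideal.mem_map_of_mem _ (Ideal.subset_span rfl))
      obtain ⟨⟨⟨i, hi⟩, ⟨s, hs⟩⟩, he⟩ := (IsLocalization.mem_map_algebraMap_iff P.primeCompl _).1 h1
      rw [← map_mul] at he
      have he' := IsLocalization.injective (Localization.AtPrime P) P.primeCompl_le_nonZeroDivisors he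
      refine ⟨s, hs, fun x hx => ?_⟩
      obtain ⟨c, rfl⟩ := Ideal.mem_span_singleton'.1 hx
      have he'' : a * s = i := he'
      have : s * (c * a) = c * i := by
        rw [← he'']; ring
      rw [this]
      exact J.mul_mem_left _ hi
    | sup K₁ K₂ _ _ h₁ h₂ =>
      intro hle
      obtain ⟨w₁, hw₁, H₁⟩ := h₁ ((Ideal.map_mono le_sup_left).trans hle)
      obtain ⟨w₂, hw₂, H₂⟩ := h₂ ((Ideal.map_mono le_sup_right).trans hle)
      refine ⟨w₁ * w₂, fun h => ((Ideal.IsPrime.mem_or_mem ‹_› h).elim hw₁ hw₂), ?_⟩
      intro x hx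
      obtain ⟨y, hy, z, hz, rfl⟩ := Submodule.mem_sup.1 hx
      have : w₁ * w₂ * (y + z) = w₂ * (w₁ * y) + w₁ * (w₂ * z) := by ring
      rw [this]
      exact J.add_mem (J.mul_mem_left _ (H₁ y hy)) (J.mul_mem_left _ (H₂ z hz))
  exact key I (IsNoetherian.noetherian I) h

/-- A nonzero element divides, up to a factor outside the prime radical of `(z)`, a power of
`z`. -/
theorem exists_mul_pow_mem {z : A} (hz : (Ideal.span {z}).radical.IsPrime) (f : A)
    (hf : f ≠ 0) : ∃ (x : A) (N : ℕ), x ∉ (Ideal.span {z}).radical ∧ x * z ^ N ∈ Ideal.span {f} := by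
  set P := (Ideal.span {z}).radical with hP
  have hrad : algebraMap A (Localization.AtPrime P) z ∈
      (Ideal.map (algebraMap A (Localization.AtPrime P)) (Ideal.span {f})).radical := by
    rw [Ideal.radical_eq_sInf]
    refine Ideal.mem_sInf.2 ?_
    rintro Q ⟨hQ, hQp⟩
    have hle : Q.comap (algebraMap A (Localization.AtPrime P)) ≤ P := by
      have := (IsLocalization.isPrime_iff_isPrime_disjoint P.primeCompl
        (Localization.AtPrime P) Q).1 hQp
      intro x hx
      by_contra hxP
      exact Set.disjoint_left.1 this.2 hxP hx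
    have hne : Q.comap (algebraMap A (Localization.AtPrime P)) ≠ ⊥ := by
      intro h0
      apply hf
      have : f ∈ Q.comap (algebraMap A (Localization.AtPrime P)) :=
        hQ (Ideal.mem_map_of_mem _ (Ideal.subset_span rfl))
      rw [h0] at this
      exact this
    have heq := eq_of_le hz _ hle hne
    have : z ∈ Q.comap (algebraMap A (Localization.AtPrime P)) := by
      rw [heq]
      exact Ideal.le_radical (Ideal.subset_span rfl)
    exact this
  obtain ⟨N, hN⟩ := hrad
  obtain ⟨w, hw, H⟩ := exists_mul_mem P (Ideal.span {z ^ N}) (Ideal.span {f}) (by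
    rw [Ideal.map_span, Set.image_singleton, Ideal.span_singleton_le_iff_mem, map_pow]
    exact hN)
  exact ⟨w, N, hw, H _ (Ideal.subset_span rfl)⟩

/-- The localization of a normal Noetherian domain at the prime radical of a nonzero principal
ideal is a discrete valuation ring. -/
theorem isDiscreteValuationRing [IsIntegrallyClosed A] {z : A}
    (hz : (Ideal.span {z}).radical.IsPrime) (h0 : z ≠ 0) :
    IsDiscreteValuationRing (Localization.AtPrime (Ideal.span {z}).radical) := by
  set P := (Ideal.span {z}).radical with hP
  have hzP : z ∈ P := Ideal.le_radical (Ideal.subset_span rfl)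
  have hinj : Function.Injective (algebraMap A (Localization.AtPrime P)) :=
    IsLocalization.injective _ P.primeCompl_le_nonZeroDivisors
  have hmz : algebraMap A (Localization.AtPrime P) z ∈
      IsLocalRing.maximalIdeal (Localization.AtPrime P) :=
    (IsLocalization.AtPrime.to_map_mem_maximal_iff (Localization.AtPrime P) P z).2 hzP
  have hmax : IsLocalRing.maximalIdeal (Localization.AtPrime P) ≠ ⊥ := by
    intro h
    rw [h] at hmz
    exact h0 ((map_eq_zero_iff _ hinj).1 hmz)
  have hnf : ¬ IsField (Localization.AtPrime P) := by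
    rwa [IsLocalRing.isField_iff_maximalIdeal_eq]
  have hic : IsIntegrallyClosed (Localization.AtPrime P) :=
    isIntegrallyClosed_of_isLocalization _ P.primeCompl P.primeCompl_le_nonZeroDivisors
  have htfae := (IsDiscreteValuationRing.TFAE (Localization.AtPrime P) hnf).out 0 3
  refine htfae.2 ⟨hic, IsLocalRing.maximalIdeal (Localization.AtPrime P),
    ⟨hmax, inferInstance⟩, ?_⟩
  rintro Q ⟨hQ0, hQp⟩
  have hle : Q.comap (algebraMap A (Localization.AtPrime P)) ≤ P := by
    have := (IsLocalization.isPrime_iff_isPrime_disjoint P.primeCompl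
      (Localization.AtPrime P) Q).1 hQp
    intro x hx
    by_contra hxP
    exact Set.disjoint_left.1 this.2 hxP hx
  have hne : Q.comap (algebraMap A (Localization.AtPrime P)) ≠ ⊥ := by
    intro h
    apply hQ0
    have hQ : Ideal.map (algebraMap A (Localization.AtPrime P))
        (Q.comap (algebraMap A (Localization.AtPrime P))) = Q :=
      IsLocalization.map_under P.primeCompl (Localization.AtPrime P) Q
    rw [← hQ, h, Ideal.map_bot]
  have heq := eq_of_le hz _ hle hne
  have hQ : Ideal.map (algebraMap A (Localization.AtPrime P))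
      (Q.comap (algebraMap A (Localization.AtPrime P))) = Q :=
    IsLocalization.map_under P.primeCompl (Localization.AtPrime P) Q
  rw [← hQ, heq, Localization.AtPrime.map_eq_maximalIdeal]

end K954.RadicalPrime
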